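import Groth.Agent.ComodLib.Basic
import Groth.Prelude.Def_W4c3ghconstell
import Mathlib.LinearAlgebra.Dual.Lemmas
import Mathlib.Analysis.Normed.Group.InfiniteSum
import Mathlib.LinearAlgebra.FiniteDimensional.Lemmas

/-!
# Isotypic decomposition with respect to simple subcoalgebras, and weights
-/

set_option linter.unusedSectionVars false
set_option linter.style.haveILetI false

universe u v w w'

open TensorProduct
open Groth.Agent.ComodLib

namespace Groth.Agent.GITGhLib

open W4c3ghconstell

section Coalg

variable {k : Type u} {A : Type v} [Field k] [AddCommGroup A] [Module k A] [Coalgebra k A]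

theorem mem_range_map_inf {D E : Submodule k A} {x : A ⊗[k] A}
    (hD : x ∈ LinearMap.range (TensorProduct.map D.subtype D.subtype))
    (hE : x ∈ LinearMap.range (TensorProduct.map E.subtype E.subtype)) :
    x ∈ LinearMap.range (TensorProduct.map (D ⊓ E).subtype (D ⊓ E).subtype) := by
  obtain ⟨pD, hpD⟩ := D.subtype.exists_leftInverse_of_injective D.ker_subtype
  obtain ⟨pE, hpE⟩ := E.subtype.exists_leftInverse_of_injective E.ker_subtype
  obtain ⟨pB, hpB⟩ := (D ⊓ E).subtype.exists_leftInverse_of_injective (D ⊓ E).ker_subtype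
  -- left factor
  have hl : x ∈ LinearMap.range ((D ⊓ E).subtype.rTensor A) := by
    rw [mem_range_rTensor_subtype_iff]
    intro φ
    refine Submodule.mem_inf.mpr ⟨?_, ?_⟩
    · clear * - hD
      obtain ⟨y, rfl⟩ := hD
      induction y using TensorProduct.induction_on with
      | zero => simp
      | tmul a b => simpa using Submodule.smul_mem D _ a.2
      | add p q hp hq => simpa only [map_add] using Submodule.add_mem _ hp hq
    · clear * - hE
      obtain ⟨y, rfl⟩ := hE
      induction y using TensorProduct.induction_on with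
      | zero => simp
      | tmul a b => simpa using Submodule.smul_mem E _ a.2
      | add p q hp hq => simpa only [map_add] using Submodule.add_mem _ hp hq
  have hr : (TensorProduct.comm k A A) x ∈ LinearMap.range ((D ⊓ E).subtype.rTensor A) := by
    rw [mem_range_rTensor_subtype_iff]
    intro φ
    refine Submodule.mem_inf.mpr ⟨?_, ?_⟩
    · clear * - hD
      obtain ⟨y, rfl⟩ := hD
      induction y using TensorProduct.induction_on with
      | zero => simp
      | tmul a b => simpa using Submodule.smul_mem D _ b.2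
      | add p q hp hq => simpa only [map_add] using Submodule.add_mem _ hp hq
    · clear * - hE
      obtain ⟨y, rfl⟩ := hE
      induction y using TensorProduct.induction_on with
      | zero => simp
      | tmul a b => simpa using Submodule.smul_mem E _ b.2
      | add p q hp hq => simpa only [map_add] using Submodule.add_mem _ hp hq
  obtain ⟨y, hy⟩ := hl
  obtain ⟨z, hz⟩ := hr
  have hpB' : ∀ b : ↥(D ⊓ E), pB (b : A) = b := fun b => LinearMap.congr_fun hpB b
  refine ⟨TensorProduct.map pB pB x, ?_⟩
  have h1 : TensorProduct.map ((D ⊓ E).subtype ∘ₗ pB) LinearMap.id x = x := by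
    rw [← hy]
    clear hy
    induction y using TensorProduct.induction_on with
    | zero => simp
    | tmul a b => simp [hpB' a]
    | add p q hp hq => simp only [map_add, hp, hq]
  have h2 : TensorProduct.map LinearMap.id ((D ⊓ E).subtype ∘ₗ pB) x = x := by
    have hx : x = (TensorProduct.comm k A A).symm ((D ⊓ E).subtype.rTensor A z) := by
      rw [hz, LinearEquiv.symm_apply_apply]
    rw [hx]
    clear hx hz
    induction z using TensorProduct.induction_on with
    | zero => simp
    | tmul a b => simp [hpB' a]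
    | add p q hp hq => simp only [map_add, hp, hq]
  rw [← LinearMap.comp_apply, ← TensorProduct.map_comp]
  calc TensorProduct.map ((D ⊓ E).subtype ∘ₗ pB) ((D ⊓ E).subtype ∘ₗ pB) x
      = TensorProduct.map ((D ⊓ E).subtype ∘ₗ pB) LinearMap.id
          (TensorProduct.map LinearMap.id ((D ⊓ E).subtype ∘ₗ pB) x) := by
        rw [← LinearMap.comp_apply, ← TensorProduct.map_comp]; rfl
    _ = x := by rw [h2, h1]

theorem isSubcoalg_inf {D E : Submodule k A} (hD : IsSubcoalg k A D) (hE : IsSubcoalg k A E) :
    IsSubcoalg k A (D ⊓ E) :=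
  fun d hd => mem_range_map_inf (hD d hd.1) (hE d hd.2)

theorem simpSub_disjoint {D E : SimpSub k A} (h : D ≠ E) : D.1 ⊓ E.1 = ⊥ := by
  have hs := isSubcoalg_inf D.2.2.1 E.2.2.1
  rcases D.2.2.2 _ inf_le_left hs with h0 | hD
  · exact h0
  · rcases E.2.2.2 _ inf_le_right hs with h0 | hE
    · exact h0
    · exact absurd (Subtype.ext (hD.symm.trans hE)) h

theorem counit_slice (d : A) :
    TensorProduct.rid k A ((Coalgebra.counit (R := k) (A := A)).lTensor A (CoalgebraStruct.comul d)) = d := by
  rw [Coalgebra.lTensor_counit_comul]; simp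

/-- A simple subcoalgebra contained in a finite sum of simple subcoalgebras is one of them. -/
theorem disjoint_finset_sup (s : Finset (SimpSub k A)) :
    ∀ D₀ ∉ s, D₀.1 ⊓ s.sup (fun D => D.1) = ⊥ := by
  classical
  induction s using Finset.induction with
  | empty => simp
  | @insert a s has ih =>
    intro D₀ hD₀
    rw [Finset.mem_insert, not_or] at hD₀
    by_contra hne
    have hsubE : IsSubcoalg k A ((insert a s).sup (fun D => D.1)) := by
      intro d hd
      set E := (insert a s).sup (fun D : SimpSub k A => D.1)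
      have : E ≤ (LinearMap.range (TensorProduct.map E.subtype E.subtype)).comap CoalgebraStruct.comul := by
        refine Finset.sup_le fun i hi x hx => ?_
        obtain ⟨y, hy⟩ := i.2.2.1 x hx
        have hle : i.1 ≤ E := Finset.le_sup (f := fun D : SimpSub k A => D.1) hi
        refine ⟨TensorProduct.map (Submodule.inclusion hle) (Submodule.inclusion hle) y, ?_⟩
        rw [← LinearMap.comp_apply, ← TensorProduct.map_comp, ← hy]; rfl
      exact this hd
    have hD₀E : D₀.1 ≤ a.1 ⊔ s.sup (fun D => D.1) := by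
      have := (D₀.2.2.2 _ inf_le_left (isSubcoalg_inf D₀.2.2.1 hsubE)).resolve_left hne
      rw [Finset.sup_insert] at this
      exact inf_eq_left.mp this
    -- a form which is the counit on `a` and zero on the sum over `s`
    let P : Submodule k A := s.sup (fun D => D.1)
    have hdis : Disjoint a.1 P := disjoint_iff.mpr (ih a has)
    obtain ⟨Q, hQ⟩ := Submodule.exists_isCompl a.1
    obtain ⟨f, hfa, hfP⟩ : ∃ f : A →ₗ[k] k, (∀ x ∈ a.1, f x = Coalgebra.counit x) ∧ ∀ x ∈ P, f x = 0 := by
      obtain ⟨Q', hPQ', hQ'⟩ : ∃ Q', P ≤ Q' ∧ IsCompl a.1 Q' := by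
        obtain ⟨Q', h1, h2⟩ := hdis.symm.exists_isCompl
        exact ⟨Q', h1, h2.symm⟩
      refine ⟨Coalgebra.counit ∘ₗ a.1.subtype ∘ₗ Submodule.projectionOnto a.1 Q' hQ', fun x hx => ?_,
        fun x hx => ?_⟩
      · simp [Submodule.projectionOnto_apply_of_mem_left hQ' hx]
      · simp [Submodule.projectionOnto_apply_of_mem_right hQ' (hPQ' hx)]
    let T : A →ₗ[k] A := (TensorProduct.rid k A).toLinearMap ∘ₗ f.lTensor A ∘ₗ CoalgebraStruct.comul
    have hTD : ∀ x ∈ D₀.1, T x ∈ D₀.1 := by
      intro x hx
      obtain ⟨y, hy⟩ := D₀.2.2.1 x hx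
      simp only [T, LinearMap.comp_apply, ← hy]
      clear hy
      induction y using TensorProduct.induction_on with
      | zero => simp
      | tmul a b => simpa using Submodule.smul_mem D₀.1 _ a.2
      | add p q hp hq => simpa only [map_add] using Submodule.add_mem _ hp hq
    have hTa : ∀ x ∈ a.1, T x = x := by
      intro x hx
      conv_rhs => rw [← counit_slice (k := k) x]
      obtain ⟨y, hy⟩ := a.2.2.1 x hx
      simp only [T, LinearMap.comp_apply, ← hy]
      clear hy
      induction y using TensorProduct.induction_on with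
      | zero => simp
      | tmul b c => simp [hfa c c.2]
      | add p q hp hq => simp only [map_add, hp, hq]
    have hTP : P ≤ LinearMap.ker T := by
      refine Finset.sup_le fun i hi x hx => ?_
      rw [LinearMap.mem_ker]
      obtain ⟨y, hy⟩ := i.2.2.1 x hx
      simp only [T, LinearMap.comp_apply, ← hy]
      clear hy
      induction y using TensorProduct.induction_on with
      | zero => simp
      | tmul b c => simp [hfP c (Finset.le_sup (f := fun D : SimpSub k A => D.1) hi c.2)]
      | add p q hp hq => simp only [map_add, hp, hq, add_zero]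
    have hle : D₀.1 ≤ P := by
      intro x hx
      obtain ⟨y, hy, z, hz, rfl⟩ := Submodule.mem_sup.mp (hD₀E hx)
      have h1 : T (y + z) = y := by rw [map_add, hTa y hy, LinearMap.mem_ker.mp (hTP hz), add_zero]
      have h2 : y ∈ D₀.1 ⊓ a.1 := ⟨h1 ▸ hTD _ hx, hy⟩
      rw [simpSub_disjoint hD₀.1, Submodule.mem_bot] at h2
      rw [h2, zero_add]; exact hz
    exact D₀.2.1 (by rw [← inf_eq_left.mpr hle]; exact ih D₀ hD₀.2)

theorem exists_form (s : Finset (SimpSub k A)) (D₀ : SimpSub k A) (h : D₀ ∉ s) :
    ∃ f : A →ₗ[k] k, (∀ x ∈ D₀.1, f x = Coalgebra.counit x) ∧ ∀ D ∈ s, ∀ x ∈ D.1, f x = 0 := by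
  obtain ⟨Q', hPQ', hQ'⟩ := (disjoint_iff.mpr (disjoint_finset_sup s D₀ h)).symm.exists_isCompl
  replace hQ' := hQ'.symm
  refine ⟨Coalgebra.counit ∘ₗ D₀.1.subtype ∘ₗ Submodule.projectionOnto D₀.1 Q' hQ', fun x hx => ?_,
    fun D hD x hx => ?_⟩
  · simp [Submodule.projectionOnto_apply_of_mem_left hQ' hx]
  · simp [Submodule.projectionOnto_apply_of_mem_right hQ'
      (hPQ' (Finset.le_sup (f := fun D : SimpSub k A => D.1) hD hx))]

variable {M : Type w'} [AddCommGroup M] [Module k M] [HopfRep.Comod k A M]

theorem actF_of_mem_isoComp {D : Submodule k A} {f : A →ₗ[k] k} {v : M} (hv : v ∈ isoComp M D)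
    (c : k) (hf : ∀ x ∈ D, f x = c * Coalgebra.counit x) : actF f v = c • v := by
  have key : actF f v = c • actF (Coalgebra.counit (R := k) (A := A)) v := by
    obtain ⟨y, hy⟩ := hv
    rw [actF_apply, actF_apply, ← hy, ← map_smul]
    clear hy
    induction y using TensorProduct.induction_on with
    | zero => simp
    | tmul b x => simp [hf x x.2, smul_smul]
    | add p q hp hq => simp only [map_add, smul_add, hp, hq]
  rw [key, actF_counit]

/-- A subcomodule is the sum of its intersections with the isotypic components. -/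
theorem subcomod_eq_iSup (htop : (⨆ D : SimpSub k A, isoComp M D.1) = ⊤) {N : Submodule k M}
    (hN : HopfRep.IsSubcomod (k := k) (A := A) N) :
    N = ⨆ D : SimpSub k A, N ⊓ isoComp M D.1 := by
  classical
  refine le_antisymm (fun v hv => ?_) (iSup_le fun D => inf_le_left)
  have hvT : v ∈ ⨆ D : SimpSub k A, isoComp M D.1 := by rw [htop]; trivial
  obtain ⟨g, hg, rfl⟩ := (Submodule.mem_iSup_iff_exists_finsupp _ _).mp hvT
  refine Submodule.sum_mem _ fun D hD => ?_
  have hmem : g D ∈ N := by
    obtain ⟨f, hf1, hf2⟩ := exists_form (g.support.erase D) D (Finset.notMem_erase _ _)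
    have := subcomod_actF_mem hN f hv
    rw [Finsupp.sum, map_sum, Finset.sum_eq_single D] at this
    · rwa [actF_of_mem_isoComp (hg D) 1 (fun x hx => by rw [hf1 x hx, one_mul]), one_smul] at this
    · intro E hE hED
      rw [actF_of_mem_isoComp (hg E) 0 (fun x hx => by
        rw [hf2 E (Finset.mem_erase.mpr ⟨hED, hE⟩) x hx, zero_mul]), zero_smul]
    · intro h; exact absurd hD h
  exact Submodule.mem_iSup_of_mem D ⟨hmem, hg D⟩

theorem isSubcomod_isoComp (D : SimpSub k A) :
    HopfRep.IsSubcomod (k := k) (A := A) (isoComp M D.1) := by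
  intro v hv
  obtain ⟨p, hp⟩ := D.1.subtype.exists_leftInverse_of_injective D.1.ker_subtype
  have hp' : ∀ b : ↥D.1, p (b : A) = b := fun b => LinearMap.congr_fun hp b
  let Q : A →ₗ[k] A := LinearMap.id - D.1.subtype ∘ₗ p
  have hQ : ∀ x ∈ D.1, Q x = 0 := fun x hx => by simp [Q, hp' ⟨x, hx⟩]
  refine (mem_range_rTensor_subtype_iff _ _).mpr fun φ => ?_
  set w := slice φ (HopfRep.Comod.coact (k := k) (A := A) v)
  show HopfRep.Comod.coact (k := k) (A := A) w ∈ LinearMap.range (LinearMap.lTensor M D.1.subtype)
  refine ⟨p.lTensor M (HopfRep.Comod.coact (k := k) (A := A) w), ext_of_forall_slice_eq fun ψ => ?_⟩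
  -- `slice ψ` of the difference is `actF (ψ ∘ Q)` of `w`, a composite of two forms
  have e : slice ψ (LinearMap.lTensor M D.1.subtype (p.lTensor M (HopfRep.Comod.coact (k := k) (A := A) w)))
      = actF (ψ ∘ₗ D.1.subtype ∘ₗ p) w := by
    rw [actF_apply, slice_lTensor, slice_lTensor]; rfl
  rw [e]
  show _ = actF ψ w
  have hw : w = actF φ v := rfl
  rw [← sub_eq_zero, hw]
  have := (actF_convMul (WithConv.toConv (ψ ∘ₗ D.1.subtype ∘ₗ p)) (WithConv.toConv φ) v).symm
  have h2 := (actF_convMul (WithConv.toConv ψ) (WithConv.toConv φ) v).symm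
  simp only at this h2
  rw [show actF (ψ ∘ₗ D.1.subtype ∘ₗ p) (actF φ v) = _ from this,
    show actF ψ (actF φ v) = _ from h2, ← LinearMap.sub_apply]
  obtain ⟨y, hy⟩ := hv
  simp only [LinearMap.sub_apply, actF_apply, ← hy]
  clear hy this h2 e
  induction y using TensorProduct.induction_on with
  | zero => simp
  | tmul b x =>
    simp only [LinearMap.lTensor_tmul, slice_tmul, ← sub_smul]
    obtain ⟨z, hz⟩ := D.2.2.1 _ x.2
    have hz' : CoalgebraStruct.comul (R := k) ((x : A)) = TensorProduct.map D.1.subtype D.1.subtype z := hz.symm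
    have : ∀ g : A →ₗ[k] k, (WithConv.toConv g * WithConv.toConv φ).ofConv (D.1.subtype x) =
        LinearMap.mul' k k (TensorProduct.map g φ (TensorProduct.map D.1.subtype D.1.subtype z)) := by
      intro g; rw [← hz']; rfl
    rw [this, this]
    clear this hz hz'
    induction z using TensorProduct.induction_on with
    | zero => simp
    | tmul a c => simp [hp' a]
    | add p q hp hq => simp only [map_add, add_sub_add_comm, add_smul, hp, hq, add_zero]
  | add p q hp hq => simp only [map_add, add_sub_add_comm, hp, hq, add_zero]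

end Coalg

section Weight

variable {k : Type u} {A : Type v} [Field k] [CommRing A] [HopfAlgebra k A]
  {R : Type w} [CommRing R] [Algebra k R] [HopfRep.Comod k A R]
  {M : Type w'} [AddCommGroup M] [Module k M] [Module R M] [IsScalarTower k R M]
  [HopfRep.Comod k A M] [TameAct.IsHopfMod k A R M]
  {h : SimpSub k A → ℕ} {θ : SimpSub k A → ℚ}

open HopfRep

theorem isSubcomod_span {U : Submodule k M} (hU : IsSubcomod (k := k) (A := A) U) :
    IsSubcomod (k := k) (A := A) ((Submodule.span R (U : Set M)).restrictScalars k) := by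
  intro x hx
  set N := (Submodule.span R (U : Set M)).restrictScalars k
  have hsm : ∀ (z : R ⊗[k] A) (t : M ⊗[k] A), t ∈ LinearMap.range (N.subtype.rTensor A) →
      TameAct.hmSMul k A R M z t ∈ LinearMap.range (N.subtype.rTensor A) := by
    rintro z _ ⟨y, rfl⟩
    induction z using TensorProduct.induction_on with
    | zero => simp
    | tmul r a =>
      induction y using TensorProduct.induction_on with
      | zero => simp
      | tmul n b =>
        exact ⟨(⟨r • (n : M), Submodule.smul_mem (Submodule.span R (U : Set M)) r n.2⟩ : N) ⊗ₜ[k] (a * b), by simp⟩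
      | add p q hp hq => simpa only [map_add] using Submodule.add_mem _ hp hq
    | add p q hp hq => simpa only [map_add, LinearMap.add_apply] using Submodule.add_mem _ hp hq
  induction hx using Submodule.span_induction with
  | mem y hy =>
    obtain ⟨z, hz⟩ := hU y hy
    refine ⟨(Submodule.inclusion (fun u hu => Submodule.subset_span hu : U ≤ N)).rTensor A z, ?_⟩
    rw [← LinearMap.comp_apply, ← LinearMap.rTensor_comp, ← hz]; rfl
  | zero => simp
  | add y z _ _ hy hz => simpa only [map_add] using Submodule.add_mem _ hy hz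
  | smul r y _ hy => rw [TameAct.IsHopfMod.coact_smul]; exact hsm _ _ hy

theorem isSubcomod_genIn (S : Set (SimpSub k A)) {N : Submodule R M}
    (hN : IsSubcomod (k := k) (A := A) (N.restrictScalars k)) :
    IsSubcomod (k := k) (A := A) ((genIn k A R M S N).restrictScalars k) := by
  let U : Submodule k M := ⨆ D : S, N.restrictScalars k ⊓ isoComp M D.1.1
  have hU : IsSubcomod (k := k) (A := A) U :=
    isSubcomod_iSup fun D => isSubcomod_inf hN (isSubcomod_isoComp _)
  have : genIn k A R M S N = Submodule.span R (U : Set M) := by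
    refine le_antisymm (Submodule.span_mono ?_) ?_
    · intro x hx
      simp only [Set.mem_iUnion] at hx
      obtain ⟨D, hD, hx⟩ := hx
      exact Submodule.mem_iSup_of_mem (⟨D, hD⟩ : S) hx
    · rw [Submodule.span_le]
      show (U : Set M) ⊆ ((genIn k A R M S N).restrictScalars k : Set M)
      refine SetLike.coe_subset_coe.mpr (iSup_le fun D x hx => Submodule.subset_span ?_)
      simp only [Set.mem_iUnion]
      exact ⟨D.1, D.2, hx⟩
  rw [this]
  exact isSubcomod_span hU

omit [TameAct.IsHopfMod k A R M] in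
theorem genIn_le (S : Set (SimpSub k A)) (N : Submodule R M) : genIn k A R M S N ≤ N := by
  refine Submodule.span_le.mpr fun x hx => ?_
  simp only [Set.mem_iUnion] at hx
  obtain ⟨D, hD, hx⟩ := hx
  exact hx.1

omit [TameAct.IsHopfMod k A R M] in
theorem inf_isoComp_le_genIn {S : Set (SimpSub k A)} {D : SimpSub k A} (hD : D ∈ S) (N : Submodule R M) :
    N.restrictScalars k ⊓ isoComp M D.1 ≤ (genIn k A R M S N).restrictScalars k := fun x hx =>
  Submodule.subset_span (by simp only [Set.mem_iUnion]; exact ⟨D, hD, hx⟩)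

omit [TameAct.IsHopfMod k A R M] in
theorem genIn_genIn (S : Set (SimpSub k A)) (N : Submodule R M) :
    genIn k A R M S (genIn k A R M S N) = genIn k A R M S N := by
  refine le_antisymm (genIn_le _ _) (Submodule.span_le.mpr fun x hx => ?_)
  simp only [Set.mem_iUnion] at hx
  obtain ⟨D, hD, hx⟩ := hx
  exact inf_isoComp_le_genIn hD _ ⟨inf_isoComp_le_genIn hD N hx, hx.2⟩

omit [TameAct.IsHopfMod k A R M] in
theorem hilbAt_bot (D : SimpSub k A) : hilbAt M (⊥ : Submodule k M) D = 0 := by
  unfold hilbAt; rw [bot_inf_eq]; exact finrank_bot k M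

variable (hM : IsConstellation k A R M h)
include hM

omit [TameAct.IsHopfMod k A R M] in
theorem hilbAt_top (D : SimpSub k A) : hilbAt M ⊤ D = h D := by
  rw [hilbAt, top_inf_eq]; exact (hM.2.2 D).2

omit [TameAct.IsHopfMod k A R M] in
theorem hilbAt_mono {N N' : Submodule k M} (hle : N ≤ N') (D : SimpSub k A) :
    hilbAt M N D ≤ hilbAt M N' D := by
  haveI := (hM.2.2 D).1
  haveI : Module.Finite k ↥(N' ⊓ isoComp M D.1) := Submodule.finiteDimensional_of_le inf_le_right
  exact Submodule.finrank_mono (inf_le_inf_right _ hle)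

omit [TameAct.IsHopfMod k A R M] in
theorem hilbAt_le (N : Submodule k M) (D : SimpSub k A) : hilbAt M N D ≤ h D :=
  hilbAt_top hM D ▸ hilbAt_mono hM le_top D

omit [TameAct.IsHopfMod k A R M] in
theorem isoComp_le_of_hilbAt_eq {N : Submodule k M} {D : SimpSub k A} (e : hilbAt M N D = h D) :
    isoComp M D.1 ≤ N := by
  haveI := (hM.2.2 D).1
  have := Submodule.eq_of_le_of_finrank_eq (inf_le_right : N ⊓ isoComp M D.1 ≤ _)
    (e.trans (hM.2.2 D).2.symm)
  exact this ▸ inf_le_left

omit [TameAct.IsHopfMod k A R M] in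
theorem hilbAt_congr_genIn {S : Set (SimpSub k A)} {D : SimpSub k A} (hD : D ∈ S) (N : Submodule R M) :
    hilbAt M ((genIn k A R M S N).restrictScalars k) D = hilbAt M (N.restrictScalars k) D := by
  refine le_antisymm (hilbAt_mono hM (fun x hx => genIn_le S N hx) D) ?_
  haveI := (hM.2.2 D).1
  haveI : Module.Finite k ↥((genIn k A R M S N).restrictScalars k ⊓ isoComp M D.1) :=
    Submodule.finiteDimensional_of_le inf_le_right
  exact Submodule.finrank_mono (le_inf (inf_isoComp_le_genIn hD N) inf_le_right)

omit [TameAct.IsHopfMod k A R M] in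
theorem summable_weight (hsum : Summable fun D => (θ D : ℝ) * (h D : ℝ)) (N : Submodule k M) :
    Summable fun D => (θ D : ℝ) * (hilbAt M N D : ℝ) := by
  refine hsum.abs.of_norm_bounded fun D => ?_
  rw [Real.norm_eq_abs, abs_mul, abs_mul]
  refine mul_le_mul_of_nonneg_left ?_ (abs_nonneg _)
  simp only [Nat.abs_cast, Nat.cast_le]
  exact hilbAt_le hM N D

omit [TameAct.IsHopfMod k A R M] in
theorem theta_le (hsum : Summable fun D => (θ D : ℝ) * (h D : ℝ)) {N N' : Submodule k M}
    (hle : N ≤ N') (hneg : ∀ D, θ D < 0 → hilbAt M N D = hilbAt M N' D) :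
    theta M θ N ≤ theta M θ N' := by
  refine Summable.tsum_le_tsum (fun D => ?_) (summable_weight hM hsum N) (summable_weight hM hsum N')
  rcases lt_or_ge (θ D) 0 with h1 | h1
  · rw [hneg D h1]
  · exact mul_le_mul_of_nonneg_left (Nat.cast_le.mpr (hilbAt_mono hM hle D)) (by exact_mod_cast h1)

omit [TameAct.IsHopfMod k A R M] in
theorem theta_pos (hsum : Summable fun D => (θ D : ℝ) * (h D : ℝ)) {N : Submodule k M}
    (hN : IsSubcomod (k := k) (A := A) N) (hne : N ≠ ⊥)
    (hneg : ∀ D, θ D < 0 → hilbAt M N D = 0) (hθ : ∀ D, h D ≠ 0 → θ D ≠ 0) :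
    0 < theta M θ N := by
  have hnn : ∀ D, 0 ≤ (θ D : ℝ) * (hilbAt M N D : ℝ) := fun D => by
    rcases lt_or_ge (θ D) 0 with h1 | h1
    · simp [hneg D h1]
    · exact mul_nonneg (by exact_mod_cast h1) (Nat.cast_nonneg _)
  obtain ⟨D, hD⟩ : ∃ D : SimpSub k A, N ⊓ isoComp M D.1 ≠ ⊥ := by
    by_contra hc
    push Not at hc
    exact hne ((subcomod_eq_iSup hM.2.1 hN).trans (by simp [hc]))
  have hh : hilbAt M N D ≠ 0 := by
    haveI := (hM.2.2 D).1
    haveI : Module.Finite k ↥(N ⊓ isoComp M D.1) := Submodule.finiteDimensional_of_le inf_le_right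
    exact fun e => hD (Submodule.finrank_eq_zero.mp e)
  refine (summable_weight hM hsum N).tsum_pos hnn D (mul_pos ?_ (Nat.cast_pos.mpr (Nat.pos_of_ne_zero hh)))
  have h1 : h D ≠ 0 := fun e => hh (Nat.le_zero.mp (e ▸ hilbAt_le hM N D))
  rcases lt_trichotomy (θ D) 0 with h2 | h2 | h2
  · exact absurd (hneg D h2) hh
  · exact absurd h2 (hθ D h1)
  · exact_mod_cast h2

omit [TameAct.IsHopfMod k A R M] in
theorem theta_top (hsum : HasSum (fun D => (θ D : ℝ) * (h D : ℝ)) 0) : theta M θ ⊤ = 0 := by
  unfold theta
  simp_rw [hilbAt_top hM]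
  exact hsum.tsum_eq

end Weight

end Groth.Agent.GITGhLib
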